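import Groth.Agent.CycLib28.PB.Inj.Main

/-!
# The identifications of vector bundles and affine bundles with loci in projective bundles
-/

set_option autoImplicit false
set_option linter.unusedSectionVars false
set_option linter.style.haveILetI false
set_option backward.isDefEq.respectTransparency.types false
set_option maxHeartbeats 1000000

universe u

open AlgebraicGeometry CategoryTheory CategoryTheory.Limits Opposite TopologicalSpace
open Groth.Agent.KRRPBLib Groth.Agent.Coherent Groth.Agent.PicLib Groth.Agent.CycLim28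

namespace Groth.Agent.CycLib28.PB.Inj

variable {X P : Scheme.{u}} {n : ℕ} {p : P ⟶ X} [IsProper p] {O1 : P.Modules}

theorem toModuleMap_apply {A B : RelSpec.QCAlg X} (ψ : A ⟶ B) (U : X.Opens) (x : Γ(A.toModule, U)) :
    (RelSpec.QCAlg.Hom.toModuleMap ψ).app U x = ψ.hom.app (op U) x := rfl

theorem resM_one (U : X.Opens) :
    resM (Coh.structureModule X) (le_top : U ≤ ⊤) (1 : Γ(X, ⊤)) = (1 : Γ(X, U)) :=
  map_one (X.presheaf.map (homOfLE (le_top : U ≤ ⊤)).op).hom

/-- The map into the unit algebra sending `1` to `1`. -/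
noncomputable def toUnit (X : Scheme.{u}) : Coh.structureModule X ⟶ (RelSpec.QCAlg.unit X).toModule :=
  unitDesc _ (show Γ((RelSpec.QCAlg.unit X).toModule, ⊤) from (1 : Γ(X, ⊤)))

theorem toUnit_one : (toUnit X).app ⊤ (1 : Γ(X, ⊤)) = (1 : Γ(X, ⊤)) :=
  (unitVal_unitDesc _ _ ⊤).trans (resM_self (RelSpec.QCAlg.unit X).toModule le_top _)

theorem isIso_toUnit : IsIso (toUnit X) := by
  refine isIso_of_isGen _ ?_
  intro V hV
  have h : (fun r : Γ(X, V) => r • resM (RelSpec.QCAlg.unit X).toModule hV (unitVal (toUnit X) ⊤)) = id := by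
    funext r
    have h1 : unitVal (toUnit X) ⊤ = (1 : Γ(X, ⊤)) := toUnit_one
    rw [h1]
    show r * X.presheaf.map (homOfLE hV).op (1 : Γ(X, ⊤)) = r
    rw [map_one, mul_one]
  rw [h]
  exact Function.bijective_id

/-- The coordinates identify a vector bundle with the locus of the second summand in `P(ℰ ⊞ O)`. -/
theorem exists_coord_vectorBundle {ℰ : X.Modules} (hr : FlatMod.IsFinLocFreeOfRank n ℰ)
    {q : (Scheme.Modules.pullback p).obj (ℰ ⊞ Coh.structureModule X) ⟶ O1}
    (hP : KRR.IsProjBundle p (ℰ ⊞ Coh.structureModule X) O1 q)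
    (hex : (ShortComplex.mk (biprod.inr : Coh.structureModule X ⟶ ℰ ⊞ Coh.structureModule X)
      (biprod.fst : ℰ ⊞ Coh.structureModule X ⟶ ℰ) biprod.inr_fst).ShortExact)
    [Coh.IsQCoh (ℰ ⊞ Coh.structureModule X)]
    [QuasiCompact (fD q (biprod.inr : Coh.structureModule X ⟶ ℰ ⊞ Coh.structureModule X))]
    [QuasiSeparated (fD q (biprod.inr : Coh.structureModule X ⟶ ℰ ⊞ Coh.structureModule X))]
    (A : RelSpec.QCAlg X) (j : ℰ ⟶ A.toModule) (hA : RelSpec.IsSymAlg ℰ A j) :
    ∃ ψ : A ⟶ RelSpec.QCAlg.directImage (fD q (biprod.inr : Coh.structureModule X ⟶ ℰ ⊞ Coh.structureModule X)),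
      (∀ (U : X.Opens) (x : Γ(ℰ, U)), ψ.hom.app (op U) (j.app U x) =
        cmap q biprod.inr U ((biprod.inl : ℰ ⟶ ℰ ⊞ Coh.structureModule X).app U x)) ∧
      IsIso (RelSpec.QCAlg.specMap ψ) := by
  haveI := isQCoh_of_rank hr
  set a : Coh.structureModule X ⟶ ℰ ⊞ Coh.structureModule X := biprod.inr
  let C := RelSpec.QCAlg.directImage (fD q a)
  obtain ⟨ψ, hψ, -⟩ := hA C (biprod.inl ≫ coordMod q a)
  have hψ' : ∀ (U : X.Opens) (x : Γ(ℰ, U)), ψ.hom.app (op U) (j.app U x) =
      cmap q a U ((biprod.inl : ℰ ⟶ ℰ ⊞ Coh.structureModule X).app U x) := fun U x =>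
    (congrArg (fun z : ℰ ⟶ C.toModule => z.app U x) hψ).trans rfl
  refine ⟨ψ, hψ', ?_⟩
  show IsIso (RelSpec.QCAlg.specMap ψ)
  refine isIso_specMap_of_cover ψ fun x => ?_
  obtain ⟨U, hU, v, hx, hv⟩ := exists_adapted hex hr x
  refine ⟨U, hU, hx, ?_⟩
  obtain ⟨huniq, hlift⟩ := cmap_univ hP hU v hv (T := A.presheaf.obj (op U))
  let jA : Γ(ℰ, U) →+ A.presheaf.obj (op U) := (j.app U).hom
  let fstX : Γ(ℰ ⊞ Coh.structureModule X, U) →+ Γ(ℰ, U) :=
    ((biprod.fst : ℰ ⊞ Coh.structureModule X ⟶ ℰ).app U).hom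
  let sndX : Γ(ℰ ⊞ Coh.structureModule X, U) →+ Γ(X, U) :=
    ((biprod.snd : ℰ ⊞ Coh.structureModule X ⟶ Coh.structureModule X).app U).hom
  let k : Γ(ℰ ⊞ Coh.structureModule X, U) →+ A.presheaf.obj (op U) :=
    jA.comp fstX + (A.str.app (op U)).hom.toAddMonoidHom.comp sndX
  obtain ⟨G, hG0, hG1⟩ := hlift (A.str.app (op U)).hom k
    (fun r e => by
      show jA (fstX (r • e)) + A.str.app (op U) (sndX (r • e)) =
        A.str.app (op U) r * (jA (fstX e) + A.str.app (op U) (sndX e))
      rw [show fstX (r • e) = r • fstX e from Scheme.Modules.Hom.app_smul _ r e,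
        show sndX (r • e) = r * sndX e from Scheme.Modules.Hom.app_smul _ r e, mul_add, map_mul]
      exact congrArg (· + _) (Scheme.Modules.Hom.app_smul j r _))
    (by
      show jA _ + A.str.app (op U) _ = 1
      have h1 : (biprod.fst : ℰ ⊞ Coh.structureModule X ⟶ ℰ).app U (resM _ le_top (oneSec a)) = 0 := by
        rw [app_resM]
        exact (congrArg (resM ℰ le_top) (sections_zero (S := ShortComplex.mk a _ biprod.inr_fst) ⊤ _)).trans
          (map_zero _)
      have h2 : (biprod.snd : ℰ ⊞ Coh.structureModule X ⟶ Coh.structureModule X).app U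
          (resM _ le_top (oneSec a)) = (1 : Γ(X, U)) := by
        rw [app_resM, show (biprod.snd : ℰ ⊞ Coh.structureModule X ⟶ Coh.structureModule X).app ⊤ (oneSec a) =
          (1 : Γ(X, ⊤)) from congrArg (fun z : Coh.structureModule X ⟶ Coh.structureModule X => z.app ⊤ (1 : Γ(X, ⊤)))
            biprod.inr_snd]
        exact resM_one U
      show jA (fstX (resM _ le_top (oneSec a))) + A.str.app (op U) (sndX (resM _ le_top (oneSec a))) = 1
      rw [show fstX (resM _ le_top (oneSec a)) = 0 from h1,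
        show sndX (resM _ le_top (oneSec a)) = 1 from h2, map_zero, map_one, zero_add])
  have hstr : ∀ r, ψ.hom.app (op U) (A.str.app (op U) r) = p.appLE U _ (img_le q a U) r := fun r =>
    (ConcreteCategory.congr_hom (NatTrans.congr_app ψ.comm (op U)) r).trans (str_app q a U r)
  refine Function.bijective_iff_has_inverse.2 ⟨G, fun z => ?_, fun z => ?_⟩
  · refine RingHom.congr_fun (f := G.comp (ψ.hom.app (op U)).hom) (g := RingHom.id _)
      (SymAlgLib.sectionsHom_ext hA hU (fun r => ?_) fun x => ?_) z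
    · show G (ψ.hom.app (op U) (A.str.app (op U) r)) = _
      rw [hstr]; exact hG0 r
    · show G (ψ.hom.app (op U) (j.app U x)) = _
      rw [hψ', hG1]
      show jA (fstX ((biprod.inl : ℰ ⟶ ℰ ⊞ Coh.structureModule X).app U x)) + A.str.app (op U)
        (sndX ((biprod.inl : ℰ ⟶ ℰ ⊞ Coh.structureModule X).app U x)) = jA x
      rw [show fstX ((biprod.inl : ℰ ⟶ ℰ ⊞ Coh.structureModule X).app U x) = x from
          congrArg (fun z : ℰ ⟶ ℰ => z.app U x) biprod.inl_fst,
        show sndX ((biprod.inl : ℰ ⟶ ℰ ⊞ Coh.structureModule X).app U x) = 0 from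
          congrArg (fun z : ℰ ⟶ Coh.structureModule X => z.app U x) biprod.inl_snd,
        map_zero, add_zero]
  · have key : ((ψ.hom.app (op U)).hom : A.presheaf.obj (op U) →+* Γ(P, img q a U)).comp G = RingHom.id _ := by
      refine (cmap_univ hP hU v hv (T := Γ(P, img q a U))).1 _ _ (fun r => ?_) fun e => ?_
      · show ψ.hom.app (op U) (G _) = p.appLE U _ _ r
        rw [hG0]; exact hstr r
      · show ψ.hom.app (op U) (G _) = cmap q a U e
        rw [hG1]
        show ψ.hom.app (op U) (jA (fstX e) + A.str.app (op U) (sndX e)) = _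
        rw [map_add, show ψ.hom.app (op U) (jA (fstX e)) = cmap q a U _ from hψ' U (fstX e),
          show ψ.hom.app (op U) (A.str.app (op U) (sndX e)) = _ from hstr (sndX e)]
        have he : e = (biprod.inl : ℰ ⟶ ℰ ⊞ Coh.structureModule X).app U
            ((biprod.fst : ℰ ⊞ Coh.structureModule X ⟶ ℰ).app U e) +
            (show Γ(X, U) from (biprod.snd : ℰ ⊞ Coh.structureModule X ⟶ Coh.structureModule X).app U e) •
              resM _ le_top (oneSec a) := by
          rw [oneSec, ← app_resM, ← Scheme.Modules.Hom.app_smul, resM_one]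
          have h1 : ∀ r : Γ(X, U), r • (1 : Γ(X, U)) = r := fun r => mul_one r
          erw [h1]
          exact (congrArg (fun z : ℰ ⊞ Coh.structureModule X ⟶ ℰ ⊞ Coh.structureModule X => z.app U e)
            biprod.total).symm.trans rfl
        conv_rhs => rw [he]
        rw [cmap_add, cmap_smul, cmap_one, mul_one]
        rfl
    exact RingHom.congr_fun key z

/-- A vector bundle is the locus of the second summand in `P(ℰ ⊞ O)`. -/
theorem exists_iso_vectorBundle {ℰ : X.Modules} (hr : FlatMod.IsFinLocFreeOfRank n ℰ)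
    {q : (Scheme.Modules.pullback p).obj (ℰ ⊞ Coh.structureModule X) ⟶ O1}
    (hP : KRR.IsProjBundle p (ℰ ⊞ Coh.structureModule X) O1 q)
    (hex : (ShortComplex.mk (biprod.inr : Coh.structureModule X ⟶ ℰ ⊞ Coh.structureModule X)
      (biprod.fst : ℰ ⊞ Coh.structureModule X ⟶ ℰ) biprod.inr_fst).ShortExact)
    [Coh.IsQCoh (ℰ ⊞ Coh.structureModule X)]
    (A : RelSpec.QCAlg X) (j : ℰ ⟶ A.toModule) (hA : RelSpec.IsSymAlg ℰ A j) :
    ∃ e : (↑(D q (oneSec (biprod.inr : Coh.structureModule X ⟶ ℰ ⊞ Coh.structureModule X))) : Scheme.{u}) ≅ A.spec,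
      e.hom ≫ A.π = fD q biprod.inr := by
  haveI := isQCoh_of_rank hr
  haveI := isAffineHom_fD hex hr hP
  obtain ⟨ψ, -, _⟩ := exists_coord_vectorBundle hr hP hex A j hA
  haveI := RelVALib.isIso_toRelSpec (fD q (biprod.inr : Coh.structureModule X ⟶ ℰ ⊞ Coh.structureModule X))
  refine ⟨asIso (RelVALib.toRelSpec (fD q biprod.inr) ≫ RelSpec.QCAlg.specMap ψ), ?_⟩
  rw [asIso_hom, Category.assoc, RelSpec.QCAlg.specMap_π, RelVALib.toRelSpec_π]

/-- An affine bundle is the locus of the section in `P(ℰ)`. -/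
theorem exists_iso_affineBundle {E F : X.Modules} (hF : FlatMod.IsFinLocFreeOfRank n F) [Coh.IsQCoh E]
    {q : (Scheme.Modules.pullback p).obj E ⟶ O1} (hP : KRR.IsProjBundle p E O1 q)
    {a : Coh.structureModule X ⟶ E} {b : E ⟶ F} {hab : a ≫ b = 0} (hex : (ShortComplex.mk a b hab).ShortExact)
    {AE A1 : RelSpec.QCAlg X} (jE : E ⟶ AE.toModule) (hAE : RelSpec.IsSymAlg E AE jE)
    (j1 : Coh.structureModule X ⟶ A1.toModule) (hA1 : RelSpec.IsSymAlg (Coh.structureModule X) A1 j1)
    (ψ : A1 ⟶ AE) (t : Coh.structureModule X ⟶ Coh.structureModule X) [IsIso t]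
    (hψ : j1 ≫ RelSpec.QCAlg.Hom.toModuleMap ψ = t ≫ a ≫ jE) (ε : A1 ⟶ RelSpec.QCAlg.unit X)
    (hε : j1 ≫ RelSpec.QCAlg.Hom.toModuleMap ε = t ≫ toUnit X) :
    ∃ e : (↑(D q (oneSec a)) : Scheme.{u}) ≅ pullback (RelSpec.QCAlg.specMap ψ) (RelSpec.QCAlg.specMap ε),
      e.hom ≫ pullback.fst (RelSpec.QCAlg.specMap ψ) (RelSpec.QCAlg.specMap ε) ≫ AE.π = fD q a := by
  haveI := isAffineHom_fD hex hF hP
  let C := RelSpec.QCAlg.directImage (fD q a)
  obtain ⟨ω, hω, -⟩ := hAE C (coordMod q a)
  let κ : RelSpec.QCAlg.unit X ⟶ C := ⟨C.str, Category.id_comp _⟩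
  have hω' : ∀ (U : X.Opens) (x : Γ(E, U)), ω.hom.app (op U) (jE.app U x) = cmap q a U x := fun U x =>
    (congrArg (fun z : E ⟶ C.toModule => z.app U x) hω).trans rfl
  have hj : a ≫ coordMod q a = toUnit X ≫ RelSpec.QCAlg.Hom.toModuleMap κ := by
    refine hom_ext_one _ _ ?_
    show cmap q a ⊤ (oneSec a) = C.str.app (op ⊤) ((toUnit X).app ⊤ (1 : Γ(X, ⊤)))
    rw [toUnit_one]
    refine Eq.trans ?_ (map_one (C.str.app (op ⊤)).hom).symm
    have := cmap_one (q := q) (a := a) (⊤ : X.Opens)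
    rwa [resM_self] at this
  have hw : ψ ≫ ω = ε ≫ κ := by
    refine (hA1 C (t ≫ a ≫ coordMod q a)).unique ?_ ?_
    · rw [SymAlgLib.toModuleMap_comp, reassoc_of% hψ, hω]
    · rw [SymAlgLib.toModuleMap_comp, reassoc_of% hε, hj]
  have hpb : IsPullback (RelSpec.QCAlg.specMap ω) (RelSpec.QCAlg.specMap κ) (RelSpec.QCAlg.specMap ψ)
      (RelSpec.QCAlg.specMap ε) := by
    refine isPullback_specMap_cover ψ ε ω κ hw fun x => ?_
    obtain ⟨U, hU, v, hx, hv⟩ := exists_adapted hex hF x
    refine ⟨U, hU, hx, ?_⟩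
    have hstr : ∀ r, ω.hom.app (op U) (AE.str.app (op U) r) = p.appLE U _ (img_le q a U) r := fun r =>
      (ConcreteCategory.congr_hom (NatTrans.congr_app ω.comm (op U)) r).trans (str_app q a U r)
    have hψstr : A1.str.app (op U) ≫ ψ.hom.app (op U) = AE.str.app (op U) := NatTrans.congr_app ψ.comm (op U)
    have hεstr : A1.str.app (op U) ≫ ε.hom.app (op U) = 𝟙 _ := NatTrans.congr_app ε.comm (op U)
    suffices H : ∀ s : PushoutCocone (ψ.hom.app (op U)) (ε.hom.app (op U)), ∃ G : C.presheaf.obj (op U) ⟶ s.pt,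
        ω.hom.app (op U) ≫ G = s.inl ∧ κ.hom.app (op U) ≫ G = s.inr ∧
          ∀ l : C.presheaf.obj (op U) ⟶ s.pt, ω.hom.app (op U) ≫ l = s.inl → κ.hom.app (op U) ≫ l = s.inr → l = G by
      choose G hG1 hG2 hG3 using H
      exact ⟨⟨by rw [← NatTrans.comp_app, ← NatTrans.comp_app]
                 exact congrArg (fun z : A1 ⟶ C => z.hom.app (op U)) hw⟩,
        ⟨PushoutCocone.IsColimit.mk _ G hG1 hG2 hG3⟩⟩
    intro s
    obtain ⟨huniq, hlift⟩ := cmap_univ hP hU v hv (T := s.pt)
    have hμ : ∀ r, s.inl (AE.str.app (op U) r) = s.inr r := fun r => by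
      have h1 : s.inl (ψ.hom.app (op U) (A1.str.app (op U) r)) = s.inr (ε.hom.app (op U) (A1.str.app (op U) r)) :=
        ConcreteCategory.congr_hom s.condition (A1.str.app (op U) r)
      rwa [show ψ.hom.app (op U) (A1.str.app (op U) r) = AE.str.app (op U) r from ConcreteCategory.congr_hom hψstr r,
        show ε.hom.app (op U) (A1.str.app (op U) r) = r from ConcreteCategory.congr_hom hεstr r] at h1
    let jEA : Γ(E, U) →+ AE.presheaf.obj (op U) := (jE.app U).hom
    let k : Γ(E, U) →+ s.pt := s.inl.hom.toAddMonoidHom.comp jEA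
    have hk1 : k (resM E le_top (oneSec a)) = 1 := by
      let z : Γ(Coh.structureModule X, U) := (inv t).app U (resM (Coh.structureModule X) le_top (1 : Γ(X, ⊤)))
      have hz : t.app U z = resM (Coh.structureModule X) le_top (1 : Γ(X, ⊤)) :=
        congrArg (fun w : Coh.structureModule X ⟶ Coh.structureModule X =>
          w.app U (resM (Coh.structureModule X) le_top (1 : Γ(X, ⊤)))) (IsIso.inv_hom_id t)
      have h1 := ConcreteCategory.congr_hom s.condition (j1.app U z)
      rw [CommRingCat.comp_apply, CommRingCat.comp_apply] at h1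
      have hA : ψ.hom.app (op U) (j1.app U z) = jE.app U (resM E le_top (oneSec a)) :=
        (congrArg (fun w : Coh.structureModule X ⟶ AE.toModule => w.app U z) hψ).trans (by
          show jE.app U (a.app U (t.app U z)) = _
          rw [hz, app_resM]; rfl)
      have hB : ε.hom.app (op U) (j1.app U z) = (1 : Γ(X, U)) :=
        (congrArg (fun w : Coh.structureModule X ⟶ (RelSpec.QCAlg.unit X).toModule => w.app U z) hε).trans (by
          show (toUnit X).app U (t.app U z) = _
          rw [hz, app_resM, toUnit_one]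
          exact resM_one U)
      show s.inl (jE.app U (resM E le_top (oneSec a))) = 1
      rw [← hA]
      refine h1.trans ?_
      rw [hB]
      exact map_one s.inr.hom
    obtain ⟨G, hG0, hG1⟩ := hlift s.inr.hom k (fun r e => by
      show s.inl (jE.app U (r • e)) = _
      rw [Scheme.Modules.Hom.app_smul]
      refine (map_mul s.inl.hom _ _).trans ?_
      exact congrArg (· * _) (hμ r)) hk1
    refine ⟨CommRingCat.ofHom G, ?_, ?_, fun l h1 h2 => ?_⟩
    · refine CommRingCat.hom_ext (SymAlgLib.sectionsHom_ext hAE hU (fun r => ?_) fun x => ?_)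
      · show G (ω.hom.app (op U) (AE.str.app (op U) r)) = _
        rw [hstr]; exact (hG0 r).trans (hμ r).symm
      · show G (ω.hom.app (op U) (jE.app U x)) = _
        rw [hω']; exact hG1 x
    · refine CommRingCat.hom_ext (RingHom.ext fun r => ?_)
      show G (C.str.app (op U) r) = _
      rw [str_app]; exact hG0 r
    · refine CommRingCat.hom_ext (huniq l.hom G (fun r => ?_) fun e => ?_)
      · rw [hG0, ← str_app]
        exact RingHom.congr_fun (congrArg CommRingCat.Hom.hom h2) r
      · rw [hG1, ← hω']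
        exact RingHom.congr_fun (congrArg CommRingCat.Hom.hom h1) (jE.app U e)
  haveI := RelVALib.isIso_toRelSpec (fD q a)
  refine ⟨asIso (RelVALib.toRelSpec (fD q a)) ≪≫ hpb.isoPullback, ?_⟩
  rw [Iso.trans_hom, asIso_hom, Category.assoc, IsPullback.isoPullback_hom_fst_assoc, RelSpec.QCAlg.specMap_π,
    RelVALib.toRelSpec_π]

end Groth.Agent.CycLib28.PB.Inj
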