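import Groth.Agent.CycLib28.PB.Inj.Chart
import Groth.Agent.CycLib28.PB.Inj.Vanish
import Groth.Agent.CycLib28.P1Inter
import Groth.Agent.RelVALib.VBEmbed
import Groth.Agent.CycLib28.PB.Ops.LocFree

/-!
# Vector bundles and affine bundles as loci in projective bundles
-/

set_option autoImplicit false
set_option linter.unusedSectionVars false
set_option linter.style.haveILetI false
set_option backward.isDefEq.respectTransparency.types false
set_option maxHeartbeats 1000000

universe u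

open AlgebraicGeometry CategoryTheory CategoryTheory.Limits Opposite TopologicalSpace
open Groth.Agent.KRRPBLib Groth.Agent.Coherent Groth.Agent.PicLib Groth.Agent.CycLim28

namespace Groth.Agent.CycLib28.PB.Inj

variable {X : Scheme.{u}}

/-- A map of algebras bijective on the members of an affine cover gives an isomorphism of spectra. -/
theorem isIso_specMap_of_cover {A C : RelSpec.QCAlg X} (ψ : A ⟶ C)
    (h : ∀ x : X, ∃ (U : X.Opens) (_ : IsAffineOpen U), x ∈ U ∧ Function.Bijective (ψ.hom.app (op U)).hom) :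
    IsIso (RelSpec.QCAlg.specMap ψ) := by
  choose U hU hx hb using h
  have hsup : ⨆ x : X, (A.ι (U x) (hU x)).opensRange = ⊤ := top_le_iff.1 fun z _ =>
    Opens.mem_iSup.2 ⟨A.π z, (A.π_preimage _ _).le (hx (A.π z))⟩
  show MorphismProperty.isomorphisms Scheme (RelSpec.QCAlg.specMap ψ)
  refine (IsZariskiLocalAtTarget.iff_of_iSup_eq_top _ hsup).2 fun x => ?_
  refine (MorphismProperty.arrow_mk_iso_iff (MorphismProperty.isomorphisms Scheme)
    (morphismRestrictOpensRange (RelSpec.QCAlg.specMap ψ) (A.ι (U x) (hU x)))).2 ?_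
  have hpb := (SymAlgLib.specMap_isPullback ψ (U x) (hU x)).flip
  rw [← hpb.isoPullback_inv_snd]
  have : IsIso (ψ.hom.app (op (U x))) := (ConcreteCategory.isIso_iff_bijective _).2 (hb x)
  exact MorphismProperty.comp_mem _ _ _ (inferInstanceAs (IsIso hpb.isoPullback.inv))
    (inferInstanceAs (IsIso (Spec.map (ψ.hom.app (op (U x))))))

/-- Pushouts over the members of an affine cover give pullbacks of relative spectra. -/
theorem isPullback_specMap_cover {A B A' C : RelSpec.QCAlg X} (ψ : A ⟶ B) (ε : A ⟶ A') (ω : B ⟶ C) (κ : A' ⟶ C)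
    (hw : ψ ≫ ω = ε ≫ κ)
    (h : ∀ x : X, ∃ (U : X.Opens) (_ : IsAffineOpen U), x ∈ U ∧
      IsPushout (ψ.hom.app (op U)) (ε.hom.app (op U)) (ω.hom.app (op U)) (κ.hom.app (op U))) :
    IsPullback (RelSpec.QCAlg.specMap ω) (RelSpec.QCAlg.specMap κ) (RelSpec.QCAlg.specMap ψ)
      (RelSpec.QCAlg.specMap ε) := by
  choose U hU hx hpo using h
  have w : RelSpec.QCAlg.specMap ω ≫ RelSpec.QCAlg.specMap ψ = RelSpec.QCAlg.specMap κ ≫ RelSpec.QCAlg.specMap ε := by
    apply colimit.hom_ext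
    intro V
    show C.ι V.1 V.2 ≫ RelSpec.QCAlg.specMap ω ≫ RelSpec.QCAlg.specMap ψ =
      C.ι V.1 V.2 ≫ RelSpec.QCAlg.specMap κ ≫ RelSpec.QCAlg.specMap ε
    rw [reassoc_of% (RelSpec.QCAlg.ι_specMap V.1 V.2 ω), RelSpec.QCAlg.ι_specMap,
      reassoc_of% (RelSpec.QCAlg.ι_specMap V.1 V.2 κ), RelSpec.QCAlg.ι_specMap, ← Spec.map_comp_assoc,
      ← Spec.map_comp_assoc, ← NatTrans.comp_app, ← NatTrans.comp_app,
      show ψ.hom ≫ ω.hom = ε.hom ≫ κ.hom from congrArg RelSpec.QCAlg.Hom.hom hw]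
  let L := pullback.lift _ _ w
  suffices IsIso L from IsPullback.of_iso_pullback ⟨w⟩ (asIso L) (pullback.lift_fst _ _ _) (pullback.lift_snd _ _ _)
  let fB : ∀ x : X, Spec (B.presheaf.obj (op (U x))) ⟶ A.spec := fun x => B.ι (U x) (hU x) ≫ RelSpec.QCAlg.specMap ψ
  let fA : ∀ x : X, Spec (A'.presheaf.obj (op (U x))) ⟶ A.spec := fun x => A'.ι (U x) (hU x) ≫ RelSpec.QCAlg.specMap ε
  let m : ∀ x : X, pullback (fB x) (fA x) ⟶ pullback (RelSpec.QCAlg.specMap ψ) (RelSpec.QCAlg.specMap ε) :=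
    fun x => pullback.map _ _ _ _ (B.ι (U x) (hU x)) (A'.ι (U x) (hU x)) (𝟙 _) (Category.comp_id _)
      (Category.comp_id _)
  let base : (pullback (RelSpec.QCAlg.specMap ψ) (RelSpec.QCAlg.specMap ε) : Scheme.{u}) → X := fun z =>
    B.π (pullback.fst (RelSpec.QCAlg.specMap ψ) (RelSpec.QCAlg.specMap ε) z)
  have hbase : ∀ z, base z = A'.π (pullback.snd (RelSpec.QCAlg.specMap ψ) (RelSpec.QCAlg.specMap ε) z) := fun z => by
    show B.π _ = _
    rw [← RelSpec.QCAlg.specMap_π ψ, ← RelSpec.QCAlg.specMap_π ε, ← Scheme.Hom.comp_apply, ← Scheme.Hom.comp_apply,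
      pullback.condition_assoc]
  have hsup : ⨆ x : X, (m x).opensRange = ⊤ := top_le_iff.1 fun z _ => by
    refine Opens.mem_iSup.2 ⟨base z, ?_⟩
    show z ∈ Set.range (m (base z))
    rw [Scheme.Pullback.range_map]
    refine ⟨(B.π_preimage _ (hU _)).le (hx (base z)), (A'.π_preimage _ (hU _)).le ?_⟩
    show A'.π _ ∈ U (base z)
    rw [← hbase]
    exact hx (base z)
  show MorphismProperty.isomorphisms Scheme L
  refine (IsZariskiLocalAtTarget.iff_of_iSup_eq_top _ hsup).2 fun x => ?_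
  have hsq : IsPullback (Spec.map (ω.hom.app (op (U x)))) (Spec.map (κ.hom.app (op (U x)))) (fB x) (fA x) := by
    simp only [fB, fA, RelSpec.QCAlg.ι_specMap]
    exact SymAlgLib.isPullback_comp_mono (isPullback_SpecMap_of_isPushout _ _ _ _ (hpo x)) _
  let g := hsq.isoPullback.hom
  have hLg : C.ι (U x) (hU x) ≫ L = g ≫ m x := by
    refine pullback.hom_ext ?_ ?_
    · simp only [g, m, L, pullback.map, Category.assoc, pullback.lift_fst, RelSpec.QCAlg.ι_specMap,
        IsPullback.isoPullback_hom_fst_assoc]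
    · simp only [g, m, L, pullback.map, Category.assoc, pullback.lift_snd, RelSpec.QCAlg.ι_specMap,
        IsPullback.isoPullback_hom_snd_assoc]
  have hpre : L ⁻¹ᵁ (m x).opensRange = (C.ι (U x) (hU x)).opensRange := by
    refine le_antisymm (fun z hz => ?_) ?_
    · obtain ⟨t, ht⟩ := hz
      have h2 : RelSpec.QCAlg.specMap ω z = B.ι (U x) (hU x) (pullback.fst (fB x) (fA x) t) := by
        have h1 : pullback.fst (RelSpec.QCAlg.specMap ψ) (RelSpec.QCAlg.specMap ε) (m x t) = B.ι (U x) (hU x) (pullback.fst (fB x) (fA x) t) := by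
          rw [← Scheme.Hom.comp_apply, pullback.lift_fst, Scheme.Hom.comp_apply]
        rw [← h1, ht, ← Scheme.Hom.comp_apply, pullback.lift_fst]
      rw [← C.π_preimage (U x) (hU x), ← RelSpec.QCAlg.specMap_π ω]
      show (RelSpec.QCAlg.specMap ω ≫ B.π) z ∈ U x
      rw [Scheme.Hom.comp_apply, h2]
      exact (B.π_preimage (U x) (hU x)).ge ⟨_, rfl⟩
    · rintro _ ⟨t, rfl⟩
      exact ⟨g t, by rw [← Scheme.Hom.comp_apply, ← hLg]; rfl⟩
  have hpb := (IsOpenImmersion.isPullback g (C.ι (U x) (hU x)) (m x) L hLg hpre).flip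
  show MorphismProperty.isomorphisms Scheme (L ∣_ (m x).opensRange)
  refine (MorphismProperty.arrow_mk_iso_iff (MorphismProperty.isomorphisms Scheme)
    (morphismRestrictOpensRange L (m x))).2 ?_
  rw [← hpb.isoPullback_inv_snd]
  exact MorphismProperty.comp_mem _ _ _ (inferInstanceAs (IsIso hpb.isoPullback.inv)) (inferInstanceAs (IsIso g))

/-- Maps out of the structure sheaf agree when they agree at `1`. -/
theorem hom_ext_one {M : X.Modules} (φ χ : Coh.structureModule X ⟶ M)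
    (h : φ.app ⊤ (1 : Γ(X, ⊤)) = χ.app ⊤ (1 : Γ(X, ⊤))) : φ = χ := by
  refine RelVALib.hom_ext_affine _ _ fun V hV (r : Γ(X, V)) => ?_
  have h1 : ∀ η : Coh.structureModule X ⟶ M, η.app V r = r • resM M le_top (η.app ⊤ (1 : Γ(X, ⊤))) := fun η => by
    rw [← app_resM, ← Scheme.Modules.Hom.app_smul]
    refine congrArg (η.app V) ?_
    show r = r * X.presheaf.map (homOfLE (le_top : V ≤ ⊤)).op (1 : Γ(X, ⊤))
    rw [map_one, mul_one]
  rw [h1 φ, h1 χ, h]

variable {P : Scheme.{u}} {δ : X → ℤ} {δP : P → ℤ} {n : ℕ} {E F : X.Modules} {p : P ⟶ X} [IsProper p]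
  {O1 : P.Modules} {q : (Scheme.Modules.pullback p).obj E ⟶ O1} {a : Coh.structureModule X ⟶ E} {b : E ⟶ F}
  {hab : a ≫ b = 0} (hex : (ShortComplex.mk a b hab).ShortExact)
  (hF : FlatMod.IsFinLocFreeOfRank n F) (hP : KRR.IsProjBundle p E O1 q)

include hex hF

theorem exists_adapted [Coh.IsQCoh E] (x : X) :
    ∃ (U : X.Opens) (_ : IsAffineOpen U) (v : Module.Basis (Fin (n + 1)) Γ(X, U) Γ(E, U)),
      x ∈ U ∧ v 0 = resM E le_top (oneSec a) := by
  haveI : Epi b := hex.epi_g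
  obtain ⟨C⟩ := nonempty_adaptChart hF AmpleLib.isInvertible_structureModule b hex x
  obtain ⟨v, hv⟩ := exists_chart C
  exact ⟨C.U, C.isAffine, v, C.mem, hv⟩

include hP

theorem isAffineHom_fD [Coh.IsQCoh E] : IsAffineHom (fD q a) := by
  choose U hU v hx hv using exists_adapted hex hF
  refine (HasAffineProperty.iff_of_iSup_eq_top (P := @IsAffineHom) (fun x => (⟨U x, hU x⟩ : X.affineOpens))
    (top_le_iff.1 fun x _ => Opens.mem_iSup.2 ⟨x, hx x⟩)).2 fun x => ?_
  exact isAffineOpen_preimage hP (hU x) (v x) (hv x)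

variable (hX : Cyc.IsSetup X δ) (hE : FlatMod.IsFinLocFreeOfRank (n + 1) E) (hPs : Cyc.IsSetup P δP)
  (hδ : Cyc.DeltaCompat p δP δ)

include hX hE hPs hδ

/-- A scheme isomorphic to the locus of the section has injective flat pullback. -/
theorem ratEquivZero_of_iso {B : Scheme.{u}} (e : (↑(D q (oneSec a)) : Scheme.{u}) ≅ B) (φ : B ⟶ X)
    (he : e.hom ≫ φ = fD q a) {δB : B → ℤ} (hBs : Cyc.IsSetup B δB) (hδB : Cyc.DeltaCompat φ δB δ) (k : ℤ)
    (α : AlgebraicCycle X ℤ) (hα : α ∈ Cyc.Zk X δ k) (γ : AlgebraicCycle B ℤ)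
    (hγ : ⇑γ = Cyc.pullFun φ δB δ n ⇑α) (h0 : Cyc.RatEquivZero δB (k + n) γ) : Cyc.RatEquivZero δ k α := by
  haveI := hX.1
  haveI := hPs.1
  haveI := hBs.1
  haveI := isQCoh_of_rank hE
  haveI : Flat p := flat_of_isProjBundle hE hP
  haveI : IsLocallyNoetherian (↑(D q (oneSec a)) : Scheme.{u}) :=
    LocallyOfFiniteType.isLocallyNoetherian (D q (oneSec a)).ι
  haveI : LocallyOfFiniteType (fD q a) := inferInstance
  have hφ : φ = e.inv ≫ fD q a := by rw [← he, Iso.inv_hom_id_assoc]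
  haveI : LocallyOfFiniteType φ := by rw [hφ]; infer_instance
  let δD : (↑(D q (oneSec a)) : Scheme.{u}) → ℤ := fun y => δP ((D q (oneSec a)).ι y)
  have hdD : Cyc.IsDimFun (↑(D q (oneSec a)) : Scheme.{u}) δD := isDimFun_comp_openImmersion _ hPs.2.2
  have hι : Cyc.DeltaCompat (D q (oneSec a)).ι δD δP := fun y => by
    refine ⟨0, ?_, by simp [δD]⟩
    let _ := ((D q (oneSec a)).ι.residueFieldMap y).hom.toAlgebra
    haveI : Algebra.IsAlgebraic (P.residueField ((D q (oneSec a)).ι y)) ((↑(D q (oneSec a)) : Scheme.{u}).residueField y) :=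
      ⟨fun s => by
        obtain ⟨r, rfl⟩ := ((ConcreteCategory.isIso_iff_bijective _).1
          (Groth.Agent.DimLib.isIso_residueFieldMap_of_isPreimmersion (D q (oneSec a)).ι y)).2 s
        exact isAlgebraic_algebraMap r⟩
    rw [trdeg_eq_zero]
    simp
  have hdB : ∀ y, δB (e.hom y) = δD y := fun y =>
    (delta_closedImmersion e.hom (deltaCompat_cancel (f := 𝟙 X) (f' := e.hom) (π := φ) (π' := fD q a) (δY := δ)
      (by rw [Category.comp_id, he]) (P1Inter.deltaCompat_comp _ _ hι hδ) (deltaCompat_id δ) hδB) y).symm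
  obtain ⟨γ', hγ'⟩ := exists_pullback_cycle e.hom δD δB 0 (fun y _ => by rw [hdB, add_zero]) γ
  refine ratEquivZero_of_restrict hX hex hE hF hP hPs hδ k α hα γ' ?_ ?_
  · have hcp := delta_genInFibre hE hP hPs.2.2 hδ
    have hcD : ∀ y, GenInFibre (fD q a) y → δD y = δ (fD q a y) + n :=
      fun y hy => by
        obtain ⟨h1, -⟩ := pullFun_comp (D q (oneSec a)).ι p δD δP δ 0 n (fun _ _ => (add_zero _).symm) hcp ⇑α
        simpa using h1 y hy
    have hcφ : ∀ z, GenInFibre φ z → δB z = δ (φ z) + n := fun z hz => by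
      obtain ⟨y, rfl⟩ := e.hom.surjective z
      have hy : GenInFibre (fD q a) y := by
        rw [← he]
        exact GenInFibre.comp e.hom φ (fun w hw _ => e.hom.isOpenEmbedding.injective hw) hz
      rw [hdB, hcD y hy, ← he]
      rfl
    obtain ⟨-, hcomp⟩ := pullFun_comp e.hom φ δD δB δ 0 n (fun y _ => by rw [hdB, add_zero]) hcφ ⇑α
    rw [hγ', hγ, hcomp, zero_add]
    simp only [he]
    rfl
  · have h := pullFun_ratEquivZero e.hom hdD hBs.2.2 0 (fun y _ => by rw [hdB, add_zero]) (k + n) γ h0 γ' hγ'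
    rwa [add_zero] at h

end Groth.Agent.CycLib28.PB.Inj
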