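import Groth.Agent.CycLib28.PB.SubBundle
import Groth.Agent.CycLib28.PB.Flag

/-!
# The complement of the locus of a trivial line subbundle

For `0 → O → E → F → 0` the points of `P(E)` outside the locus where the image of `1` generates `O(1)` lie in
`P(F)`.
-/

set_option autoImplicit false
set_option linter.unusedSectionVars false
set_option linter.style.haveILetI false
set_option backward.isDefEq.respectTransparency.types false
set_option maxHeartbeats 800000

universe u

open AlgebraicGeometry CategoryTheory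
open Groth.Agent.KRRPBLib Groth.Agent.Coherent Groth.Agent.PicLib Groth.Agent.CycLim28

namespace Groth.Agent.CycLib28.PB.Inj

variable {X P Q : Scheme.{u}} {E F : X.Modules} {p : P ⟶ X} {O1 : P.Modules}
  {q : (Scheme.Modules.pullback p).obj E ⟶ O1} {a : Coh.structureModule X ⟶ E} {b : E ⟶ F}

/-- The section of `E` given by a map from the structure sheaf. -/
noncomputable def oneSec (a : Coh.structureModule X ⟶ E) : Γ(E, ⊤) :=
  a.app ⊤ (1 : Γ(X, ⊤))

/-- The locus of the section lies over any chart adapted to it. -/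
theorem D_adapt_le {m : ℕ} {ξ : X} (C : AdaptChart a m ξ) : D q (C.b 0) ≤ D q (oneSec a) := by
  obtain ⟨c, hc⟩ := (C.isGen C.U le_rfl).2 (1 : Γ(X, C.U))
  simp only [resM_self] at hc
  let l : Γ(X, C.U) := C.l
  have hc' : c * l = 1 := hc
  have hs : resM E (le_top : C.U ≤ ⊤) (oneSec a) = c • C.b 0 := by
    rw [C.hb, ← Scheme.Modules.Hom.app_smul, hc, oneSec, ← app_resM]
    exact congrArg (a.app C.U) (map_one (X.presheaf.map (homOfLE (le_top : C.U ≤ ⊤)).op).hom)
  have hW : D q (C.b 0) ≤ p ⁻¹ᵁ ⊤ := (D_le q _).trans (p.preimage_mono le_top)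
  have hsec : resM O1 hW (sec q (oneSec a)) =
      p.appLE C.U (D q (C.b 0)) (D_le q _) c • resM O1 (D_le q (C.b 0)) (sec q (C.b 0)) := by
    have h1 : resM O1 (p.preimage_mono (le_top : C.U ≤ ⊤)) (sec q (oneSec a)) = sec q (resM E le_top (oneSec a)) :=
      (app_resM (adjunct q) _ _).symm
    rw [hs] at h1
    have h1' : resM O1 (p.preimage_mono (le_top : C.U ≤ ⊤)) (sec q (oneSec a)) =
        p.app C.U c • sec q (C.b 0) := h1.trans (Scheme.Modules.Hom.app_smul (adjunct q) _ _)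
    have h2 := congrArg (resM O1 (D_le q (C.b 0))) h1'
    rw [resM_resM] at h2
    exact h2.trans (resM_smul O1 _ _ _)
  refine le_D q hW ?_
  rw [hsec]
  intro V hV
  have hu : IsUnit (P.presheaf.map (homOfLE hV).op (p.appLE C.U (D q (C.b 0)) (D_le q _) c)) :=
    ((IsUnit.of_mul_eq_one _ hc').map _).map _
  have h3 : (fun d : Γ(P, V) => d • resM O1 hV (p.appLE C.U (D q (C.b 0)) (D_le q _) c •
      resM O1 (D_le q (C.b 0)) (sec q (C.b 0)))) =
      (fun d : Γ(P, V) => d • resM O1 hV (resM O1 (D_le q (C.b 0)) (sec q (C.b 0)))) ∘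
        fun d => d * P.presheaf.map (homOfLE hV).op (p.appLE C.U (D q (C.b 0)) (D_le q _) c) := by
    funext d
    rw [Function.comp_apply, resM_smul, ← mul_smul]
  rw [h3]
  exact (isGen_D q (C.b 0) V hV).comp hu.unit.mulRight_bijective

theorem coord_zero {U : X.Opens} (e : Γ(E, U)) : coord q e (0 : Γ(E, U)) = 0 :=
  IsGen.coef_eq _ _ (by rw [resM_self, zero_smul, sec, map_zero]; exact (map_zero _).symm)

/-- The coordinates of a morphism into a chart. -/
theorem appLE_of_comp_toAffineSpace {m : ℕ} {U : X.Opens} (v : Module.Basis (Fin (m + 1)) Γ(X, U) Γ(E, U))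
    (k : Fin (m + 1)) {R : CommRingCat.{u}} (φ : Spec R ⟶ (D q (v k) : Scheme.{u}))
    (ev : MvPolynomial (Fin m) Γ(X, U) →+* R)
    (h : φ ≫ toAffineSpace (q := q) v k = Spec.map (CommRingCat.ofHom ev))
    (hle : (⊤ : (Spec R).Opens) ≤ (φ ≫ (D q (v k)).ι) ⁻¹ᵁ D q (v k)) (w : MvPolynomial (Fin m) Γ(X, U)) :
    (φ ≫ (D q (v k)).ι).appLE _ ⊤ hle (coordHom (q := q) v k w) = (Scheme.ΓSpecIso R).inv (ev w) := by
  have h1 := congrArg (fun z => (Scheme.ΓSpecIso (CommRingCat.of (MvPolynomial (Fin m) Γ(X, U)))).inv ≫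
    Scheme.Hom.appTop z) h
  simp only [Scheme.Hom.comp_appTop] at h1
  rw [← Scheme.ΓSpecIso_inv_naturality, ← Category.assoc, appTop_toAffineSpace] at h1
  refine Eq.trans ?_ (ConcreteCategory.congr_hom h1 w)
  rw [← Scheme.Hom.appLE_comp_appLE φ (D q (v k)).ι (D q (v k)) ⊤ ⊤
    (Scheme.Opens.ι_preimage_self _).ge le_top, Scheme.Opens.ι_appLE, CommRingCat.comp_apply,
    show φ.appLE ⊤ ⊤ le_top = φ.appTop from Scheme.Hom.appLE_eq_app (f := φ) (U := ⊤),
    CommRingCat.comp_apply, CommRingCat.comp_apply, Scheme.Opens.topIso_inv]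
  rfl

variable {ι : Q ⟶ P} {O1' : Q.Modules} {q' : (Scheme.Modules.pullback (ι ≫ p)).obj F ⟶ O1'}
  {e : (Scheme.Modules.pullback ι).obj O1 ≅ O1'}
  (hP : KRR.IsProjBundle p E O1 q)
  (he : (Scheme.Modules.pullbackComp ι p).inv.app E ≫ (Scheme.Modules.pullback ι).map q ≫ e.hom =
    (Scheme.Modules.pullback (ι ≫ p)).map b ≫ q')

include hP he

theorem D_le_preimage {U : X.Opens} (x : Γ(E, U)) : D q' (b.app U x) ≤ ι ⁻¹ᵁ D q x := by
  intro y hy
  have hgen := RelVALib.isGen_of_iso e.symm (isGen_D q' (b.app U x))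
  have hle : D q' (b.app U x) ≤ ι ⁻¹ᵁ (p ⁻¹ᵁ U) := D_le q' _
  have h0 : resM O1' (D_le q' (b.app U x)) (sec q' (b.app U x)) =
      e.hom.app (D q' (b.app U x)) (resM _ hle (pullSec ι (sec q x))) :=
    (congrArg (resM O1' (D_le q' (b.app U x))) (app_compat he x).symm).trans (app_resM e.hom _ _).symm
  rw [Iso.symm_hom, h0, ← ConcreteCategory.comp_apply] at hgen
  have h2 : e.hom.app (D q' (b.app U x)) ≫ e.inv.app (D q' (b.app U x)) = 𝟙 _ :=
    congrArg (fun z => Scheme.Modules.Hom.app z (D q' (b.app U x))) e.hom_inv_id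
  rw [h2] at hgen
  obtain ⟨O, hO, hxO, hOgen⟩ := RelVALib.exists_isGen_of_pullSec ι (isInvertible_of_rankOne hP.invertible)
    (sec q x) (D_le q' (b.app U x)) hgen hy
  exact le_D q hO hOgen hxO

theorem appLE_coord {U : X.Opens} (x x' : Γ(E, U)) :
    ι.appLE (D q x) (D q' (b.app U x)) (D_le_preimage hP he x) (coord q x x') =
      coord q' (b.app U x) (b.app U x') := by
  refine (IsGen.coef_eq _ _ ?_).symm
  rw [resM_self, ← app_compat he x, ← app_compat he x']
  have h := congrArg (fun z => resM O1' (D_le_preimage hP he x) (e.hom.app _ z)) (pullSec_coord q ι x x')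
  simp only [Scheme.Modules.Hom.app_smul, resM_smul, app_resM, resM_resM] at h
  refine Eq.trans ?_ h.symm
  rfl

/-- Points outside the locus of the section are in the smaller bundle. -/
theorem mem_range_of_not_mem_D [Coh.IsQCoh E] [Coh.IsQCoh F] {n : ℕ}
    (hQ : KRR.IsProjBundle (ι ≫ p) F O1' q') {hab : a ≫ b = 0} (hex : (ShortComplex.mk a b hab).ShortExact)
    (z : P) (C : AdaptChart a (n + 1) (p z)) (hz : z ∉ D q (C.b 0)) : z ∈ Set.range ι := by
  classical
  haveI : Coh.IsQCoh (ShortComplex.mk a b hab).X₁ :=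
    isQCoh_of_rank (PicLib.isFinLocFreeOfRank_one AmpleLib.isInvertible_structureModule)
  have hb0 : b.app C.U (C.b 0) = 0 := by
    rw [C.hb]
    exact sections_zero (S := ShortComplex.mk a b hab) _ _
  -- a basis of the quotient
  obtain ⟨f, hf⟩ : ∃ f : Module.Basis (Fin (n + 1)) Γ(X, C.U) Γ(F, C.U), ∀ i, f i = b.app C.U (C.b i.succ) := by
    have hbsum : ∀ c : Fin (n + 2) → Γ(X, C.U), b.app C.U (∑ i, c i • C.b i) =
        ∑ i : Fin (n + 1), c i.succ • b.app C.U (C.b i.succ) := fun c => by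
      rw [map_sum, Fin.sum_univ_succ, Scheme.Modules.Hom.app_smul, hb0, smul_zero, zero_add]
      exact Finset.sum_congr rfl fun i _ => Scheme.Modules.Hom.app_smul _ _ _
    refine ⟨Module.Basis.mk (v := fun i : Fin (n + 1) => b.app C.U (C.b i.succ))
      (Fintype.linearIndependent_iff.2 fun c hc i => ?_) fun s _ => ?_, fun i => Module.Basis.mk_apply _ _ i⟩
    · have h0 : b.app C.U (∑ i : Fin (n + 1), c i • C.b i.succ) = 0 := by
        rw [map_sum, ← hc]
        exact Finset.sum_congr rfl fun i _ => Scheme.Modules.Hom.app_smul _ _ _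
      obtain ⟨t, ht⟩ := sections_exact hex _ h0
      obtain ⟨d, hd⟩ := (C.isGen C.U le_rfl).2 t
      simp only [resM_self] at hd
      rw [← hd] at ht
      change a.app C.U (d • C.l) = _ at ht
      rw [Scheme.Modules.Hom.app_smul, ← C.hb] at ht
      have := Fintype.linearIndependent_iff.1 C.b.linearIndependent (Fin.cons (-d) c) (by
        rw [Fin.sum_univ_succ]
        simp only [Fin.cons_zero, Fin.cons_succ]
        rw [← ht, neg_smul, neg_add_cancel]) i.succ
      simpa using this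
    · obtain ⟨t, rfl⟩ := sections_surjective hex C.isAffine s
      refine (Submodule.mem_span_range_iff_exists_fun _).2 ⟨fun i => C.b.repr t i.succ, ?_⟩
      rw [← hbsum, C.b.sum_repr]
  obtain ⟨k, hk⟩ := exists_mem_D hP C.b (show z ∈ p ⁻¹ᵁ C.U from C.mem) C.isAffine
  obtain ⟨i, rfl⟩ : ∃ i : Fin (n + 1), k = i.succ := Fin.exists_succ_eq.2 (fun h => hz (h ▸ hk)) |>.imp fun _ => Eq.symm
  have hD := isAffineOpen_D hP C.isAffine C.b i.succ
  let c₀ : Γ(P, D q (C.b i.succ)) := coord q (C.b i.succ) (C.b 0)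
  let R : CommRingCat.{u} := CommRingCat.of (Γ(P, D q (C.b i.succ)) ⧸ Ideal.span {c₀})
  let mk' : Γ(P, D q (C.b i.succ)) ⟶ R := CommRingCat.ofHom (Ideal.Quotient.mk _)
  let g : Spec R ⟶ P := Spec.map mk' ≫ hD.fromSpec
  have hmk0 : mk' c₀ = 0 := Ideal.Quotient.eq_zero_iff_mem.2 (Ideal.mem_span_singleton_self _)
  have hgtop : g ⁻¹ᵁ D q (C.b i.succ) = ⊤ :=
    top_le_iff.1 fun x _ => hD.range_fromSpec.le ⟨Spec.map mk' x, rfl⟩
  have hgapp : ∀ x, g.appLE _ ⊤ hgtop.ge x = (Scheme.ΓSpecIso R).inv (mk' x) := fun x =>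
    (ConcreteCategory.congr_hom (BlowUpLib.fromSpec_comp_appLE (U := ⟨_, hD⟩) (Spec.map mk') hgtop.ge) x).trans
      (ConcreteCategory.congr_hom (Scheme.ΓSpecIso_inv_naturality mk') x).symm
  -- the point of the smaller bundle with the same coordinates
  let ev : MvPolynomial (Fin n) Γ(X, C.U) →+* R :=
    MvPolynomial.eval₂Hom (mk'.hom.comp (p.appLE C.U _ (D_le q (C.b i.succ))).hom)
      fun j => mk' (coord q (C.b i.succ) (C.b (i.succAbove j).succ))
  haveI := isIso_toAffineSpace hQ C.isAffine f i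
  let φ : Spec R ⟶ (D q' (f i) : Scheme.{u}) := Spec.map (CommRingCat.ofHom ev) ≫ inv (toAffineSpace (q := q') f i)
  have hφ : φ ≫ toAffineSpace (q := q') f i = Spec.map (CommRingCat.ofHom ev) := by simp [φ]
  have hhtop : (φ ≫ (D q' (f i)).ι) ⁻¹ᵁ D q' (f i) = ⊤ := top_le_iff.1 fun x _ => (φ x).2
  have hhapp : ∀ w, (φ ≫ (D q' (f i)).ι).appLE _ ⊤ hhtop.ge (coordHom (q := q') f i w) =
      (Scheme.ΓSpecIso R).inv (ev w) := appLE_of_comp_toAffineSpace f i φ ev hφ hhtop.ge
  have hfi : D q' (f i) ≤ ι ⁻¹ᵁ D q (C.b i.succ) := by rw [hf]; exact D_le_preimage hP he _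
  have hrtop : ((φ ≫ (D q' (f i)).ι) ≫ ι) ⁻¹ᵁ D q (C.b i.succ) = ⊤ :=
    top_le_iff.1 (hhtop.ge.trans ((φ ≫ (D q' (f i)).ι).preimage_mono hfi))
  have key : (φ ≫ (D q' (f i)).ι) ≫ ι = g := by
    refine eq_of_coords hP C.isAffine C.b i.succ _ _ ?_ hrtop hgtop fun j => ?_
    · have h1 : g ≫ p = Spec.map (p.appLE C.U _ (D_le q (C.b i.succ)) ≫ mk') ≫ C.isAffine.fromSpec := by
        rw [Spec.map_comp, Category.assoc, Category.assoc, IsAffineOpen.SpecMap_appLE_fromSpec _ C.isAffine hD]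
      rw [h1, Category.assoc, Category.assoc, ← toAffineSpace_over C.isAffine f i, reassoc_of% hφ,
        ← Spec.map_comp_assoc]
      congr 2
      ext x
      exact MvPolynomial.eval₂Hom_C _ _ x
    · rw [hgapp, ← Scheme.Hom.appLE_comp_appLE (φ ≫ (D q' (f i)).ι) ι (D q (C.b i.succ)) (D q' (f i)) ⊤ hfi hhtop.ge,
        CommRingCat.comp_apply]
      have h2 : ι.appLE (D q (C.b i.succ)) (D q' (f i)) hfi (coord q (C.b i.succ) (C.b j)) =
          coord q' (f i) (b.app C.U (C.b j)) := by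
        suffices H : ∀ (y : Γ(F, C.U)) (hy : D q' y ≤ ι ⁻¹ᵁ D q (C.b i.succ)), y = b.app C.U (C.b i.succ) →
            ι.appLE (D q (C.b i.succ)) (D q' y) hy (coord q (C.b i.succ) (C.b j)) =
              coord q' y (b.app C.U (C.b j)) from H _ _ (hf i)
        rintro _ hy rfl
        exact appLE_coord hP he _ _
      rw [h2]
      refine Fin.cases ?_ (fun j => ?_) j
      · rw [hb0, coord_zero, map_zero, show mk' (coord q (C.b i.succ) (C.b 0)) = 0 from hmk0, map_zero]
      · rw [← hf j]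
        rcases Fin.eq_self_or_eq_succAbove i j with rfl | ⟨j, rfl⟩
        · rw [coord_self, coord_self, map_one, map_one, map_one]
        · have h3 : coord q' (f i) (f (i.succAbove j)) = KRRPBLib.coordHom (q := q') f i (MvPolynomial.X j) := by
            rw [KRRPBLib.coordHom, MvPolynomial.eval₂Hom_X']
          rw [h3, hhapp]
          exact congrArg _ (MvPolynomial.eval₂Hom_X' _ _ j)
  -- the point is in the zero locus
  have hc₀ : c₀ ∈ (hD.primeIdealOf ⟨z, hk⟩).asIdeal :=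
    (mem_primeIdealOf_iff hD hk _).2 fun h => hz (basicOpen_coord_le q _ _ h)
  obtain ⟨w, hw⟩ : hD.primeIdealOf ⟨z, hk⟩ ∈ Set.range (Spec.map mk') := by
    have hr : Set.range (Spec.map mk') = PrimeSpectrum.zeroLocus (RingHom.ker mk'.hom : Set Γ(P, _)) :=
      range_comap_of_surjective _ _ Ideal.Quotient.mk_surjective
    rw [hr]
    refine (PrimeSpectrum.mem_zeroLocus _ _).2 fun x hx => ?_
    rw [SetLike.mem_coe, show RingHom.ker mk'.hom = Ideal.span {c₀} from Ideal.mk_ker] at hx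
    exact (Ideal.span_singleton_le_iff_mem _).2 hc₀ hx
  have hgw : g w = z := by
    show hD.fromSpec (Spec.map mk' w) = z
    rw [hw]
    exact hD.fromSpec_primeIdealOf ⟨z, hk⟩
  refine ⟨(φ ≫ (D q' (f i)).ι) w, ?_⟩
  rw [← Scheme.Hom.comp_apply, key, hgw]

end Groth.Agent.CycLib28.PB.Inj
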